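import Cfsg.Agent.CyN.P3C

/-! S3256, `p = 3`: coset enumeration facts on three generators (tools/tc, `Comp.BitMore3`). -/

set_option autoImplicit false

namespace Cfsg.Agent.CyN

open Subgroup
open scoped commutatorElement

variable {G : Type*} [Group G]

/-- braid relation -/
def Bd (x y : G) : Prop := x * y * x = y * x * y

theorem Bd.symm {x y : G} (h : Bd x y) : Bd y x := Eq.symm h

theorem Bd.inv {x y : G} (h : Bd x y) : Bd x⁻¹ y⁻¹ := by
  have := congrArg (·⁻¹) h
  simpa [Bd, mul_assoc] using this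

theorem Bd.conj {x y : G} (h : Bd x y) (g : G) : Bd (g * x * g⁻¹) (g * y * g⁻¹) := by
  have := congrArg (fun t => g * t * g⁻¹) h
  simpa [Bd, mul_assoc] using this

section Glue
open Cfsg.Agent.Comp.BN

/-- consequences of a presentation hold in every universe -/
theorem p3_univ {P : Pres} {W : List ℕ} (h : InSub P [] W) {x : ℕ → G} (hx : Sat P x) : ev x W = 1 := by
  let f : FreeGroup ℕ →* G := FreeGroup.lift x
  let y : ℕ → FreeGroup ℕ ⧸ f.ker := fun k => QuotientGroup.mk (FreeGroup.of k)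
  have e : (fun k => QuotientGroup.kerLift f (y k)) = x := by
    funext k
    simp [y, f]
  have hy : Sat P y := Sat.of_injective (QuotientGroup.kerLift f) (QuotientGroup.kerLift_injective f) (e ▸ hx)
  have := congrArg (QuotientGroup.kerLift f) (h.conseq _ y hy)
  rwa [map_ev, map_one, e] at this

/-- the tuple of two generators and their inverses -/
def tp2 (b c : G) : ℕ → G
  | 0 => b
  | 1 => b⁻¹
  | 2 => c
  | 3 => c⁻¹
  | _ => 1

/-- the tuple of three generators and their inverses -/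
def tp3 (a b c : G) : ℕ → G
  | 0 => a
  | 1 => a⁻¹
  | 2 => b
  | 3 => b⁻¹
  | 4 => c
  | 5 => c⁻¹
  | _ => 1

theorem sat2 {b c : G} {R : List (List ℕ)} (h : ∀ r ∈ R, ev (tp2 b c) r = 1) :
    Sat ⟨[1, 0, 3, 2], R⟩ (tp2 b c) := by
  have out : ∀ k, 4 ≤ k → tp2 b c k = 1 := fun k hk => by
    obtain ⟨j, rfl⟩ := Nat.exists_eq_add_of_le' hk
    rfl
  refine ⟨out, inv_of_lt out fun k hk => ?_, h⟩
  have hk' : k < 4 := hk
  interval_cases k
  exacts [inv_mul_cancel b, mul_inv_cancel b, inv_mul_cancel c, mul_inv_cancel c]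

theorem sat3 {a b c : G} {R : List (List ℕ)} (h : ∀ r ∈ R, ev (tp3 a b c) r = 1) :
    Sat ⟨[1, 0, 3, 2, 5, 4], R⟩ (tp3 a b c) := by
  have out : ∀ k, 6 ≤ k → tp3 a b c k = 1 := fun k hk => by
    obtain ⟨j, rfl⟩ := Nat.exists_eq_add_of_le' hk
    rfl
  refine ⟨out, inv_of_lt out fun k hk => ?_, h⟩
  have hk' : k < 6 := hk
  interval_cases k
  exacts [inv_mul_cancel a, mul_inv_cancel a, inv_mul_cancel b, mul_inv_cancel b, inv_mul_cancel c,
    mul_inv_cancel c]

theorem p3_to {u v w : G} (h : u = v) (e : w = u * v⁻¹) : w = 1 := by rw [e, h, mul_inv_cancel]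

theorem p3_of {u v w : G} (h : w = 1) (e : w = u * v⁻¹) : u = v := mul_inv_eq_one.1 (e ▸ h)

end Glue

open Cfsg.Agent.Comp.BN Cfsg.Agent.CyN.P3C

variable {a b c : G}

/-- `⟨b, c⟩` is a quotient of `SL₂(3)` (order 24), `z = (b c) ^ 3` is the central involution -/
theorem tc2 (hb : b ^ 3 = 1) (hc : c ^ 3 = 1) (h : Bd c b) :
    (b * c) ^ 3 * b = b * (b * c) ^ 3 ∧ (b * c) ^ 3 * c = c * (b * c) ^ 3 ∧
      (b * c) ^ 3 * (b * c) ^ 3 = 1 ∧ (b⁻¹ * c⁻¹) ^ 3 = (b * c) ^ 3 ∧ (c * b) ^ 3 = (b * c) ^ 3 ∧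
      (b * c) ^ 3 = ⁅⁅b, c⁆, b * ⁅b, c⁆ * b⁻¹⁆ ∧ Bd c (b * c * b⁻¹) ∧ Bd c (b⁻¹ * c * b) ∧
      c * b * c⁻¹ = b⁻¹ * c * b ∧ c⁻¹ * b * c = b * c * b⁻¹ := by
  have hs : Sat P2 (tp2 b c) := sat2 (by
    simp only [List.forall_mem_cons, List.not_mem_nil, false_imp_iff, implies_true, and_true]
    exact ⟨p3_to hb (by simp only [ev_cons, ev_nil, tp2, tp3, pow_succ, pow_zero, commutatorElement_def, mul_inv_rev, inv_inv, inv_one, mul_one, one_mul, mul_assoc, mul_inv_cancel_left, inv_mul_cancel_left, mul_inv_cancel, inv_mul_cancel]),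
      p3_to hc (by simp only [ev_cons, ev_nil, tp2, tp3, pow_succ, pow_zero, commutatorElement_def, mul_inv_rev, inv_inv, inv_one, mul_one, one_mul, mul_assoc, mul_inv_cancel_left, inv_mul_cancel_left, mul_inv_cancel, inv_mul_cancel]),
      p3_to h (by simp only [ev_cons, ev_nil, tp2, tp3, pow_succ, pow_zero, commutatorElement_def, mul_inv_rev, inv_inv, inv_one, mul_one, one_mul, mul_assoc, mul_inv_cancel_left, inv_mul_cancel_left, mul_inv_cancel, inv_mul_cancel])⟩)
  exact ⟨p3_of (p3_univ P2c_0 hs) (by simp only [ev_cons, ev_nil, tp2, tp3, pow_succ, pow_zero, commutatorElement_def, mul_inv_rev, inv_inv, inv_one, mul_one, one_mul, mul_assoc, mul_inv_cancel_left, inv_mul_cancel_left, mul_inv_cancel, inv_mul_cancel]),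
    p3_of (p3_univ P2c_1 hs) (by simp only [ev_cons, ev_nil, tp2, tp3, pow_succ, pow_zero, commutatorElement_def, mul_inv_rev, inv_inv, inv_one, mul_one, one_mul, mul_assoc, mul_inv_cancel_left, inv_mul_cancel_left, mul_inv_cancel, inv_mul_cancel]),
    p3_of (p3_univ P2c_2 hs) (by simp only [ev_cons, ev_nil, tp2, tp3, pow_succ, pow_zero, commutatorElement_def, mul_inv_rev, inv_inv, inv_one, mul_one, one_mul, mul_assoc, mul_inv_cancel_left, inv_mul_cancel_left, mul_inv_cancel, inv_mul_cancel]),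
    p3_of (p3_univ P2c_3 hs) (by simp only [ev_cons, ev_nil, tp2, tp3, pow_succ, pow_zero, commutatorElement_def, mul_inv_rev, inv_inv, inv_one, mul_one, one_mul, mul_assoc, mul_inv_cancel_left, inv_mul_cancel_left, mul_inv_cancel, inv_mul_cancel]),
    p3_of (p3_univ P2c_4 hs) (by simp only [ev_cons, ev_nil, tp2, tp3, pow_succ, pow_zero, commutatorElement_def, mul_inv_rev, inv_inv, inv_one, mul_one, one_mul, mul_assoc, mul_inv_cancel_left, inv_mul_cancel_left, mul_inv_cancel, inv_mul_cancel]),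
    p3_of (p3_univ P2c_5 hs) (by simp only [ev_cons, ev_nil, tp2, tp3, pow_succ, pow_zero, commutatorElement_def, mul_inv_rev, inv_inv, inv_one, mul_one, one_mul, mul_assoc, mul_inv_cancel_left, inv_mul_cancel_left, mul_inv_cancel, inv_mul_cancel]),
    p3_of (p3_univ P2c_6 hs) (by simp only [ev_cons, ev_nil, tp2, tp3, pow_succ, pow_zero, commutatorElement_def, mul_inv_rev, inv_inv, inv_one, mul_one, one_mul, mul_assoc, mul_inv_cancel_left, inv_mul_cancel_left, mul_inv_cancel, inv_mul_cancel]),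
    p3_of (p3_univ P2c_7 hs) (by simp only [ev_cons, ev_nil, tp2, tp3, pow_succ, pow_zero, commutatorElement_def, mul_inv_rev, inv_inv, inv_one, mul_one, one_mul, mul_assoc, mul_inv_cancel_left, inv_mul_cancel_left, mul_inv_cancel, inv_mul_cancel]),
    p3_of (p3_univ P2c_8 hs) (by simp only [ev_cons, ev_nil, tp2, tp3, pow_succ, pow_zero, commutatorElement_def, mul_inv_rev, inv_inv, inv_one, mul_one, one_mul, mul_assoc, mul_inv_cancel_left, inv_mul_cancel_left, mul_inv_cancel, inv_mul_cancel]),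
    p3_of (p3_univ P2c_9 hs) (by simp only [ev_cons, ev_nil, tp2, tp3, pow_succ, pow_zero, commutatorElement_def, mul_inv_rev, inv_inv, inv_one, mul_one, one_mul, mul_assoc, mul_inv_cancel_left, inv_mul_cancel_left, mul_inv_cancel, inv_mul_cancel])⟩

/-- both signs: trivial group -/
theorem tc_both (hb : b ^ 3 = 1) (hc : c ^ 3 = 1) (h : Bd c b) (h' : Bd c⁻¹ b) : b = 1 := by
  have hs : Sat PB (tp2 b c) := sat2 (by
    simp only [List.forall_mem_cons, List.not_mem_nil, false_imp_iff, implies_true, and_true]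
    exact ⟨p3_to hb (by simp only [ev_cons, ev_nil, tp2, tp3, pow_succ, pow_zero, commutatorElement_def, mul_inv_rev, inv_inv, inv_one, mul_one, one_mul, mul_assoc, mul_inv_cancel_left, inv_mul_cancel_left, mul_inv_cancel, inv_mul_cancel]),
      p3_to hc (by simp only [ev_cons, ev_nil, tp2, tp3, pow_succ, pow_zero, commutatorElement_def, mul_inv_rev, inv_inv, inv_one, mul_one, one_mul, mul_assoc, mul_inv_cancel_left, inv_mul_cancel_left, mul_inv_cancel, inv_mul_cancel]),
      p3_to h (by simp only [ev_cons, ev_nil, tp2, tp3, pow_succ, pow_zero, commutatorElement_def, mul_inv_rev, inv_inv, inv_one, mul_one, one_mul, mul_assoc, mul_inv_cancel_left, inv_mul_cancel_left, mul_inv_cancel, inv_mul_cancel]),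
      p3_to h' (by simp only [ev_cons, ev_nil, tp2, tp3, pow_succ, pow_zero, commutatorElement_def, mul_inv_rev, inv_inv, inv_one, mul_one, one_mul, mul_assoc, mul_inv_cancel_left, inv_mul_cancel_left, mul_inv_cancel, inv_mul_cancel])⟩)
  exact p3_of (p3_univ PBc_0 hs) (by simp only [ev_cons, ev_nil, tp2, tp3, pow_succ, pow_zero, commutatorElement_def, mul_inv_rev, inv_inv, inv_one, mul_one, one_mul, mul_assoc, mul_inv_cancel_left, inv_mul_cancel_left, mul_inv_cancel, inv_mul_cancel])

/-- order 768 -/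
theorem tc_ppp (ha : a ^ 3 = 1) (hb : b ^ 3 = 1) (hc : c ^ 3 = 1) (h1 : Bd a b) (h2 : Bd c b)
    (s1 : Bd a c) (s2 : Bd a (b * c * b⁻¹)) (s3 : Bd a (b⁻¹ * c * b)) :
    a * (b * c) ^ 3 = (b * c) ^ 3 * a ∧
      Bd a (c⁻¹ * (a⁻¹ * b * a) * c) ∧ (a * (c⁻¹ * (a⁻¹ * b * a) * c)) ^ 3 = (b * c) ^ 3 ∧
      Bd (a⁻¹ * b * a) (c⁻¹ * (a * b * a⁻¹) * c) ∧
      ((a⁻¹ * b * a) * (c⁻¹ * (a * b * a⁻¹) * c)) ^ 3 = (b * c) ^ 3 := by
  have hs : Sat PP (tp3 a b c) := sat3 (by
    simp only [List.forall_mem_cons, List.not_mem_nil, false_imp_iff, implies_true, and_true]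
    exact ⟨p3_to ha (by simp only [ev_cons, ev_nil, tp2, tp3, pow_succ, pow_zero, commutatorElement_def, mul_inv_rev, inv_inv, inv_one, mul_one, one_mul, mul_assoc, mul_inv_cancel_left, inv_mul_cancel_left, mul_inv_cancel, inv_mul_cancel]),
      p3_to hb (by simp only [ev_cons, ev_nil, tp2, tp3, pow_succ, pow_zero, commutatorElement_def, mul_inv_rev, inv_inv, inv_one, mul_one, one_mul, mul_assoc, mul_inv_cancel_left, inv_mul_cancel_left, mul_inv_cancel, inv_mul_cancel]),
      p3_to hc (by simp only [ev_cons, ev_nil, tp2, tp3, pow_succ, pow_zero, commutatorElement_def, mul_inv_rev, inv_inv, inv_one, mul_one, one_mul, mul_assoc, mul_inv_cancel_left, inv_mul_cancel_left, mul_inv_cancel, inv_mul_cancel]),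
      p3_to h1 (by simp only [ev_cons, ev_nil, tp2, tp3, pow_succ, pow_zero, commutatorElement_def, mul_inv_rev, inv_inv, inv_one, mul_one, one_mul, mul_assoc, mul_inv_cancel_left, inv_mul_cancel_left, mul_inv_cancel, inv_mul_cancel]),
      p3_to h2 (by simp only [ev_cons, ev_nil, tp2, tp3, pow_succ, pow_zero, commutatorElement_def, mul_inv_rev, inv_inv, inv_one, mul_one, one_mul, mul_assoc, mul_inv_cancel_left, inv_mul_cancel_left, mul_inv_cancel, inv_mul_cancel]),
      p3_to s1 (by simp only [ev_cons, ev_nil, tp2, tp3, pow_succ, pow_zero, commutatorElement_def, mul_inv_rev, inv_inv, inv_one, mul_one, one_mul, mul_assoc, mul_inv_cancel_left, inv_mul_cancel_left, mul_inv_cancel, inv_mul_cancel]),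
      p3_to s2 (by simp only [ev_cons, ev_nil, tp2, tp3, pow_succ, pow_zero, commutatorElement_def, mul_inv_rev, inv_inv, inv_one, mul_one, one_mul, mul_assoc, mul_inv_cancel_left, inv_mul_cancel_left, mul_inv_cancel, inv_mul_cancel]),
      p3_to s3 (by simp only [ev_cons, ev_nil, tp2, tp3, pow_succ, pow_zero, commutatorElement_def, mul_inv_rev, inv_inv, inv_one, mul_one, one_mul, mul_assoc, mul_inv_cancel_left, inv_mul_cancel_left, mul_inv_cancel, inv_mul_cancel])⟩)
  exact ⟨p3_of (p3_univ PPc_0 hs) (by simp only [ev_cons, ev_nil, tp2, tp3, pow_succ, pow_zero, commutatorElement_def, mul_inv_rev, inv_inv, inv_one, mul_one, one_mul, mul_assoc, mul_inv_cancel_left, inv_mul_cancel_left, mul_inv_cancel, inv_mul_cancel]),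
    p3_of (p3_univ PPc_1 hs) (by simp only [ev_cons, ev_nil, tp2, tp3, pow_succ, pow_zero, commutatorElement_def, mul_inv_rev, inv_inv, inv_one, mul_one, one_mul, mul_assoc, mul_inv_cancel_left, inv_mul_cancel_left, mul_inv_cancel, inv_mul_cancel]),
    p3_of (p3_univ PPc_2 hs) (by simp only [ev_cons, ev_nil, tp2, tp3, pow_succ, pow_zero, commutatorElement_def, mul_inv_rev, inv_inv, inv_one, mul_one, one_mul, mul_assoc, mul_inv_cancel_left, inv_mul_cancel_left, mul_inv_cancel, inv_mul_cancel]),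
    p3_of (p3_univ PPc_3 hs) (by simp only [ev_cons, ev_nil, tp2, tp3, pow_succ, pow_zero, commutatorElement_def, mul_inv_rev, inv_inv, inv_one, mul_one, one_mul, mul_assoc, mul_inv_cancel_left, inv_mul_cancel_left, mul_inv_cancel, inv_mul_cancel]),
    p3_of (p3_univ PPc_4 hs) (by simp only [ev_cons, ev_nil, tp2, tp3, pow_succ, pow_zero, commutatorElement_def, mul_inv_rev, inv_inv, inv_one, mul_one, one_mul, mul_assoc, mul_inv_cancel_left, inv_mul_cancel_left, mul_inv_cancel, inv_mul_cancel])⟩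

/-- collapses to the trivial group -/
theorem tc_ppm (ha : a ^ 3 = 1) (hb : b ^ 3 = 1) (hc : c ^ 3 = 1) (h1 : Bd a b) (h2 : Bd c b)
    (s1 : Bd a c) (s2 : Bd a (b * c * b⁻¹)) (s3 : Bd a⁻¹ (b⁻¹ * c * b)) : b = 1 := by
  have hs : Sat PM (tp3 a b c) := sat3 (by
    simp only [List.forall_mem_cons, List.not_mem_nil, false_imp_iff, implies_true, and_true]
    exact ⟨p3_to ha (by simp only [ev_cons, ev_nil, tp2, tp3, pow_succ, pow_zero, commutatorElement_def, mul_inv_rev, inv_inv, inv_one, mul_one, one_mul, mul_assoc, mul_inv_cancel_left, inv_mul_cancel_left, mul_inv_cancel, inv_mul_cancel]),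
      p3_to hb (by simp only [ev_cons, ev_nil, tp2, tp3, pow_succ, pow_zero, commutatorElement_def, mul_inv_rev, inv_inv, inv_one, mul_one, one_mul, mul_assoc, mul_inv_cancel_left, inv_mul_cancel_left, mul_inv_cancel, inv_mul_cancel]),
      p3_to hc (by simp only [ev_cons, ev_nil, tp2, tp3, pow_succ, pow_zero, commutatorElement_def, mul_inv_rev, inv_inv, inv_one, mul_one, one_mul, mul_assoc, mul_inv_cancel_left, inv_mul_cancel_left, mul_inv_cancel, inv_mul_cancel]),
      p3_to h1 (by simp only [ev_cons, ev_nil, tp2, tp3, pow_succ, pow_zero, commutatorElement_def, mul_inv_rev, inv_inv, inv_one, mul_one, one_mul, mul_assoc, mul_inv_cancel_left, inv_mul_cancel_left, mul_inv_cancel, inv_mul_cancel]),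
      p3_to h2 (by simp only [ev_cons, ev_nil, tp2, tp3, pow_succ, pow_zero, commutatorElement_def, mul_inv_rev, inv_inv, inv_one, mul_one, one_mul, mul_assoc, mul_inv_cancel_left, inv_mul_cancel_left, mul_inv_cancel, inv_mul_cancel]),
      p3_to s1 (by simp only [ev_cons, ev_nil, tp2, tp3, pow_succ, pow_zero, commutatorElement_def, mul_inv_rev, inv_inv, inv_one, mul_one, one_mul, mul_assoc, mul_inv_cancel_left, inv_mul_cancel_left, mul_inv_cancel, inv_mul_cancel]),
      p3_to s2 (by simp only [ev_cons, ev_nil, tp2, tp3, pow_succ, pow_zero, commutatorElement_def, mul_inv_rev, inv_inv, inv_one, mul_one, one_mul, mul_assoc, mul_inv_cancel_left, inv_mul_cancel_left, mul_inv_cancel, inv_mul_cancel]),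
      p3_to s3 (by simp only [ev_cons, ev_nil, tp2, tp3, pow_succ, pow_zero, commutatorElement_def, mul_inv_rev, inv_inv, inv_one, mul_one, one_mul, mul_assoc, mul_inv_cancel_left, inv_mul_cancel_left, mul_inv_cancel, inv_mul_cancel])⟩)
  exact p3_of (p3_univ PMc_0 hs) (by simp only [ev_cons, ev_nil, tp2, tp3, pow_succ, pow_zero, commutatorElement_def, mul_inv_rev, inv_inv, inv_one, mul_one, one_mul, mul_assoc, mul_inv_cancel_left, inv_mul_cancel_left, mul_inv_cancel, inv_mul_cancel])

/-- collapses to the trivial group -/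
theorem tc_mmm (ha : a ^ 3 = 1) (hb : b ^ 3 = 1) (hc : c ^ 3 = 1) (h1 : Bd a b) (h2 : Bd c b)
    (s1 : Bd a⁻¹ c) (s2 : Bd a⁻¹ (b * c * b⁻¹)) (s3 : Bd a⁻¹ (b⁻¹ * c * b)) : b = 1 := by
  have hs : Sat MM (tp3 a b c) := sat3 (by
    simp only [List.forall_mem_cons, List.not_mem_nil, false_imp_iff, implies_true, and_true]
    exact ⟨p3_to ha (by simp only [ev_cons, ev_nil, tp2, tp3, pow_succ, pow_zero, commutatorElement_def, mul_inv_rev, inv_inv, inv_one, mul_one, one_mul, mul_assoc, mul_inv_cancel_left, inv_mul_cancel_left, mul_inv_cancel, inv_mul_cancel]),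
      p3_to hb (by simp only [ev_cons, ev_nil, tp2, tp3, pow_succ, pow_zero, commutatorElement_def, mul_inv_rev, inv_inv, inv_one, mul_one, one_mul, mul_assoc, mul_inv_cancel_left, inv_mul_cancel_left, mul_inv_cancel, inv_mul_cancel]),
      p3_to hc (by simp only [ev_cons, ev_nil, tp2, tp3, pow_succ, pow_zero, commutatorElement_def, mul_inv_rev, inv_inv, inv_one, mul_one, one_mul, mul_assoc, mul_inv_cancel_left, inv_mul_cancel_left, mul_inv_cancel, inv_mul_cancel]),
      p3_to h1 (by simp only [ev_cons, ev_nil, tp2, tp3, pow_succ, pow_zero, commutatorElement_def, mul_inv_rev, inv_inv, inv_one, mul_one, one_mul, mul_assoc, mul_inv_cancel_left, inv_mul_cancel_left, mul_inv_cancel, inv_mul_cancel]),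
      p3_to h2 (by simp only [ev_cons, ev_nil, tp2, tp3, pow_succ, pow_zero, commutatorElement_def, mul_inv_rev, inv_inv, inv_one, mul_one, one_mul, mul_assoc, mul_inv_cancel_left, inv_mul_cancel_left, mul_inv_cancel, inv_mul_cancel]),
      p3_to s1 (by simp only [ev_cons, ev_nil, tp2, tp3, pow_succ, pow_zero, commutatorElement_def, mul_inv_rev, inv_inv, inv_one, mul_one, one_mul, mul_assoc, mul_inv_cancel_left, inv_mul_cancel_left, mul_inv_cancel, inv_mul_cancel]),
      p3_to s2 (by simp only [ev_cons, ev_nil, tp2, tp3, pow_succ, pow_zero, commutatorElement_def, mul_inv_rev, inv_inv, inv_one, mul_one, one_mul, mul_assoc, mul_inv_cancel_left, inv_mul_cancel_left, mul_inv_cancel, inv_mul_cancel]),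
      p3_to s3 (by simp only [ev_cons, ev_nil, tp2, tp3, pow_succ, pow_zero, commutatorElement_def, mul_inv_rev, inv_inv, inv_one, mul_one, one_mul, mul_assoc, mul_inv_cancel_left, inv_mul_cancel_left, mul_inv_cancel, inv_mul_cancel])⟩)
  exact p3_of (p3_univ MMc_0 hs) (by simp only [ev_cons, ev_nil, tp2, tp3, pow_succ, pow_zero, commutatorElement_def, mul_inv_rev, inv_inv, inv_one, mul_one, one_mul, mul_assoc, mul_inv_cancel_left, inv_mul_cancel_left, mul_inv_cancel, inv_mul_cancel])

/-- `U₃(3)` (order 6048, simple); the extra relation collapses it to the trivial group -/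
theorem tc_pmm (ha : a ^ 3 = 1) (hb : b ^ 3 = 1) (hc : c ^ 3 = 1) (h1 : Bd a b) (h2 : Bd c b)
    (s1 : Bd a c) (s2 : Bd a⁻¹ (b * c * b⁻¹)) (s3 : Bd a⁻¹ (b⁻¹ * c * b))
    (e : a * (b * c) ^ 3 = (b * c) ^ 3 * a) : b = 1 := by
  have hs : Sat QM (tp3 a b c) := sat3 (by
    simp only [List.forall_mem_cons, List.not_mem_nil, false_imp_iff, implies_true, and_true]
    exact ⟨p3_to ha (by simp only [ev_cons, ev_nil, tp2, tp3, pow_succ, pow_zero, commutatorElement_def, mul_inv_rev, inv_inv, inv_one, mul_one, one_mul, mul_assoc, mul_inv_cancel_left, inv_mul_cancel_left, mul_inv_cancel, inv_mul_cancel]),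
      p3_to hb (by simp only [ev_cons, ev_nil, tp2, tp3, pow_succ, pow_zero, commutatorElement_def, mul_inv_rev, inv_inv, inv_one, mul_one, one_mul, mul_assoc, mul_inv_cancel_left, inv_mul_cancel_left, mul_inv_cancel, inv_mul_cancel]),
      p3_to hc (by simp only [ev_cons, ev_nil, tp2, tp3, pow_succ, pow_zero, commutatorElement_def, mul_inv_rev, inv_inv, inv_one, mul_one, one_mul, mul_assoc, mul_inv_cancel_left, inv_mul_cancel_left, mul_inv_cancel, inv_mul_cancel]),
      p3_to h1 (by simp only [ev_cons, ev_nil, tp2, tp3, pow_succ, pow_zero, commutatorElement_def, mul_inv_rev, inv_inv, inv_one, mul_one, one_mul, mul_assoc, mul_inv_cancel_left, inv_mul_cancel_left, mul_inv_cancel, inv_mul_cancel]),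
      p3_to h2 (by simp only [ev_cons, ev_nil, tp2, tp3, pow_succ, pow_zero, commutatorElement_def, mul_inv_rev, inv_inv, inv_one, mul_one, one_mul, mul_assoc, mul_inv_cancel_left, inv_mul_cancel_left, mul_inv_cancel, inv_mul_cancel]),
      p3_to s1 (by simp only [ev_cons, ev_nil, tp2, tp3, pow_succ, pow_zero, commutatorElement_def, mul_inv_rev, inv_inv, inv_one, mul_one, one_mul, mul_assoc, mul_inv_cancel_left, inv_mul_cancel_left, mul_inv_cancel, inv_mul_cancel]),
      p3_to s2 (by simp only [ev_cons, ev_nil, tp2, tp3, pow_succ, pow_zero, commutatorElement_def, mul_inv_rev, inv_inv, inv_one, mul_one, one_mul, mul_assoc, mul_inv_cancel_left, inv_mul_cancel_left, mul_inv_cancel, inv_mul_cancel]),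
      p3_to s3 (by simp only [ev_cons, ev_nil, tp2, tp3, pow_succ, pow_zero, commutatorElement_def, mul_inv_rev, inv_inv, inv_one, mul_one, one_mul, mul_assoc, mul_inv_cancel_left, inv_mul_cancel_left, mul_inv_cancel, inv_mul_cancel]),
      p3_to e (by simp only [ev_cons, ev_nil, tp2, tp3, pow_succ, pow_zero, commutatorElement_def, mul_inv_rev, inv_inv, inv_one, mul_one, one_mul, mul_assoc, mul_inv_cancel_left, inv_mul_cancel_left, mul_inv_cancel, inv_mul_cancel])⟩)
  exact p3_of (p3_univ QMc_0 hs) (by simp only [ev_cons, ev_nil, tp2, tp3, pow_succ, pow_zero, commutatorElement_def, mul_inv_rev, inv_inv, inv_one, mul_one, one_mul, mul_assoc, mul_inv_cancel_left, inv_mul_cancel_left, mul_inv_cancel, inv_mul_cancel])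

end Cfsg.Agent.CyN
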